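import Mathlib

/-!
# Powers of 5 near powers of 2 and prime powers (helper534, for S4368)

* `stoermer` : `x² + 1 = 2·5ᵏ` only for `x = 1, 3, 7`;
* `pow_two_add` : `2ᵃ + 1 = 5ᵏ` only for `a = 2`;
* `prime_pow_sub`, `prime_pow_add` : prime powers `2·5ᵏ ± 1`;
* `suz_sub`, `suz_add` : `2^(2m+1) ∓ 2^(m+1) + 1 = 5ᵏ`.
-/

set_option autoImplicit false

namespace Cfsg.Agent.H534.Five

/-! ### the Pell equation `x² + 1 = 2 y²` modulo `725 = 25·29` -/

/-- the orbit of `(1, 1)` modulo 725 -/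
def orb2 (n : ℕ) : ℕ × ℕ := (fun p : ℕ × ℕ => ((3 * p.1 + 4 * p.2) % 725, (2 * p.1 + 3 * p.2) % 725))^[n] (1, 1)

theorem orb2_succ (n : ℕ) :
    orb2 (n + 1) = ((3 * (orb2 n).1 + 4 * (orb2 n).2) % 725, (2 * (orb2 n).1 + 3 * (orb2 n).2) % 725) := by
  rw [orb2, Function.iterate_succ_apply', ← orb2]

theorem orb2_period (n : ℕ) : orb2 (n + 30) = orb2 n := by
  induction n with
  | zero => decide +kernel
  | succ n ih => rw [Nat.add_right_comm, orb2_succ, ih, ← orb2_succ]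

theorem orb2_mod (n : ℕ) : orb2 n = orb2 (n % 30) := by
  induction n using Nat.strong_induction_on with
  | _ n ih =>
    rcases Nat.lt_or_ge n 30 with h | h
    · rw [Nat.mod_eq_of_lt h]
    · obtain ⟨m, rfl⟩ : ∃ m, n = m + 30 := ⟨n - 30, by omega⟩
      rw [orb2_period, ih m (by omega), Nat.add_mod_right]

theorem orb2_check : ∀ n < 30, (orb2 n).2 % 25 = 0 → (orb2 n).2 % 29 = 0 := by decide +kernel

theorem pell2 (y : ℕ) : ∀ x : ℕ, x ^ 2 + 1 = 2 * y ^ 2 → ∃ n, (x % 725, y % 725) = orb2 n := by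
  induction y using Nat.strong_induction_on with
  | _ y ih =>
    intro x h
    rcases Nat.lt_or_ge y 3 with hy | hy
    · interval_cases y
      · omega
      · have : x = 1 := by nlinarith
        subst this
        exact ⟨0, rfl⟩
      · exfalso
        have h1 : x < 3 := by nlinarith
        interval_cases x <;> omega
    · have h1 : 2 * x < 3 * y := by nlinarith
      have h2 : y < x := by nlinarith
      have h3 : 4 * y < 3 * x := by nlinarith
      obtain ⟨u, hu⟩ : ∃ u, 3 * x = 4 * y + u := ⟨3 * x - 4 * y, by omega⟩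
      obtain ⟨v, hv⟩ : ∃ v, 3 * y = 2 * x + v := ⟨3 * y - 2 * x, by omega⟩
      have hx : x = 3 * u + 4 * v := by omega
      have hy' : y = 2 * u + 3 * v := by omega
      have h4 : u ^ 2 + 1 = 2 * v ^ 2 := by
        rw [hx, hy'] at h
        nlinarith
      obtain ⟨n, hn⟩ := ih v (by omega) u h4
      refine ⟨n + 1, ?_⟩
      rw [orb2_succ, ← hn, hx, hy']
      simp only [Prod.mk.injEq]
      constructor
      · simp [Nat.add_mod, Nat.mul_mod]
      · simp [Nat.add_mod, Nat.mul_mod]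

theorem dvd_of_pell2 {x y : ℕ} (h : x ^ 2 + 1 = 2 * y ^ 2) (hy : 25 ∣ y) : 29 ∣ y := by
  obtain ⟨n, hn⟩ := pell2 y x h
  rw [orb2_mod] at hn
  have h1 := orb2_check (n % 30) (Nat.mod_lt _ (by norm_num))
  rw [← hn] at h1
  simp only at h1
  omega

/-! ### the Pell equation `x² + 1 = 10 y²` modulo `1405 = 5·281` -/

/-- the orbit of `(3, 1)` modulo 1405 -/
def orb10 (n : ℕ) : ℕ × ℕ :=
  (fun p : ℕ × ℕ => ((19 * p.1 + 60 * p.2) % 1405, (6 * p.1 + 19 * p.2) % 1405))^[n] (3, 1)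

theorem orb10_succ (n : ℕ) :
    orb10 (n + 1) =
      ((19 * (orb10 n).1 + 60 * (orb10 n).2) % 1405, (6 * (orb10 n).1 + 19 * (orb10 n).2) % 1405) := by
  rw [orb10, Function.iterate_succ_apply', ← orb10]

theorem orb10_period (n : ℕ) : orb10 (n + 10) = orb10 n := by
  induction n with
  | zero => decide +kernel
  | succ n ih => rw [Nat.add_right_comm, orb10_succ, ih, ← orb10_succ]

theorem orb10_mod (n : ℕ) : orb10 n = orb10 (n % 10) := by
  induction n using Nat.strong_induction_on with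
  | _ n ih =>
    rcases Nat.lt_or_ge n 10 with h | h
    · rw [Nat.mod_eq_of_lt h]
    · obtain ⟨m, rfl⟩ : ∃ m, n = m + 10 := ⟨n - 10, by omega⟩
      rw [orb10_period, ih m (by omega), Nat.add_mod_right]

theorem orb10_check : ∀ n < 10, (orb10 n).2 % 5 = 0 → (orb10 n).2 % 281 = 0 := by decide +kernel

theorem pell10 (y : ℕ) : ∀ x : ℕ, x ^ 2 + 1 = 10 * y ^ 2 → ∃ n, (x % 1405, y % 1405) = orb10 n := by
  induction y using Nat.strong_induction_on with
  | _ y ih =>
    intro x h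
    rcases Nat.lt_or_ge y 7 with hy | hy
    · have h1 : x < 20 := by nlinarith
      interval_cases y
      · omega
      · have : x = 3 := by nlinarith
        subst this
        exact ⟨0, rfl⟩
      all_goals (exfalso; interval_cases x <;> omega)
    · have h1 : 6 * x < 19 * y := by nlinarith
      have h2 : 3 * y < x := by nlinarith
      have h3 : 60 * y < 19 * x := by nlinarith
      obtain ⟨u, hu⟩ : ∃ u, 19 * x = 60 * y + u := ⟨19 * x - 60 * y, by omega⟩
      obtain ⟨v, hv⟩ : ∃ v, 19 * y = 6 * x + v := ⟨19 * y - 6 * x, by omega⟩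
      have hx : x = 19 * u + 60 * v := by omega
      have hy' : y = 6 * u + 19 * v := by omega
      have h4 : u ^ 2 + 1 = 10 * v ^ 2 := by
        rw [hx, hy'] at h
        nlinarith
      obtain ⟨n, hn⟩ := ih v (by omega) u h4
      refine ⟨n + 1, ?_⟩
      rw [orb10_succ, ← hn, hx, hy']
      simp only [Prod.mk.injEq]
      constructor
      · simp [Nat.add_mod, Nat.mul_mod]
      · simp [Nat.add_mod, Nat.mul_mod]

theorem dvd_of_pell10 {x y : ℕ} (h : x ^ 2 + 1 = 10 * y ^ 2) (hy : 5 ∣ y) : 281 ∣ y := by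
  obtain ⟨n, hn⟩ := pell10 y x h
  rw [orb10_mod] at hn
  have h1 := orb10_check (n % 10) (Nat.mod_lt _ (by norm_num))
  rw [← hn] at h1
  simp only at h1
  omega

/-- **Størmer**: `x² + 1 = 2·5ᵏ` only for `x = 1, 3, 7`. -/
theorem stoermer {x k : ℕ} (h : x ^ 2 + 1 = 2 * 5 ^ k) : x = 1 ∨ x = 3 ∨ x = 7 := by
  rcases Nat.even_or_odd' k with ⟨j, rfl | rfl⟩
  · have h1 : x ^ 2 + 1 = 2 * (5 ^ j) ^ 2 := by rw [h, ← pow_mul, mul_comm j 2]
    rcases Nat.lt_or_ge j 2 with hj | hj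
    · interval_cases j
      · left; nlinarith
      · right; right
        have : x < 8 := by nlinarith
        interval_cases x <;> omega
    · exfalso
      have h2 : 25 ∣ 5 ^ j := by
        have := pow_dvd_pow 5 hj
        norm_num at this
        exact this
      have h3 := dvd_of_pell2 h1 h2
      have h4 := (Nat.Prime.dvd_of_dvd_pow (by norm_num : Nat.Prime 29) h3)
      omega
  · have h1 : x ^ 2 + 1 = 10 * (5 ^ j) ^ 2 := by rw [h, pow_succ, ← pow_mul, mul_comm j 2]; ring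
    rcases Nat.lt_or_ge j 1 with hj | hj
    · interval_cases j
      right; left
      have : x < 4 := by nlinarith
      interval_cases x <;> omega
    · exfalso
      have h3 := dvd_of_pell10 h1 (dvd_pow_self 5 (by omega))
      have h4 := (Nat.Prime.dvd_of_dvd_pow (by norm_num : Nat.Prime 281) h3)
      omega

/-! ### powers of two -/

theorem five_pow_mod_four (k : ℕ) : 5 ^ k % 4 = 1 := by
  induction k with
  | zero => rfl
  | succ k ih => rw [pow_succ, Nat.mul_mod, ih]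

theorem pow_two_sub {a k : ℕ} (ha : 2 ≤ a) : 2 ^ a ≠ 5 ^ k + 1 := by
  intro h
  have h1 := five_pow_mod_four k
  have h2 : 4 ∣ 2 ^ a := by
    have := pow_dvd_pow 2 ha
    norm_num at this
    exact this
  omega

theorem five_pow_odd_mod (j : ℕ) : 5 ^ (2 * j + 1) % 8 = 5 := by
  induction j with
  | zero => rfl
  | succ j ih =>
    rw [show 2 * (j + 1) + 1 = 2 * j + 1 + 2 by ring, pow_add, Nat.mul_mod, ih]
    norm_num

theorem five_pow_even_mod (j : ℕ) : 5 ^ (2 * j) % 3 = 1 := by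
  rw [pow_mul]
  norm_num
  induction j with
  | zero => rfl
  | succ j ih => rw [pow_succ, Nat.mul_mod, ih]

/-- `2ᵃ + 1 = 5ᵏ` only for `a = 2`. -/
theorem pow_two_add {a k : ℕ} (ha : 1 ≤ a) (h : 2 ^ a + 1 = 5 ^ k) : a = 2 := by
  rcases Nat.even_or_odd' k with ⟨j, rfl | rfl⟩
  · exfalso
    have h1 := five_pow_even_mod j
    have h2 : 3 ∣ 2 ^ a := by omega
    have h3 := Nat.Prime.dvd_of_dvd_pow (by norm_num : Nat.Prime 3) h2
    omega
  · have h1 := five_pow_odd_mod j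
    by_contra hne
    rcases Nat.lt_or_ge a 3 with h3 | h3
    · have : a = 1 := by omega
      subst this
      omega
    · have h2 : 8 ∣ 2 ^ a := by
        have := pow_dvd_pow 2 h3
        norm_num at this
        exact this
      omega

/-- `2^(j+2) ∣ 5ᵏ - 1` gives `2ʲ ∣ k`. -/
theorem two_pow_dvd {j k : ℕ} (h : 2 ^ (j + 2) ∣ 5 ^ k - 1) : 2 ^ j ∣ k := by
  induction j generalizing k with
  | zero => simp
  | succ j ih =>
    rcases Nat.even_or_odd' k with ⟨i, rfl | rfl⟩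
    · have h1 : 5 ^ (2 * i) - 1 = (5 ^ i - 1) * (5 ^ i + 1) := by
        rw [mul_comm 2 i, pow_mul]
        have h2 : 1 ≤ 5 ^ i := Nat.one_le_pow _ _ (by norm_num)
        obtain ⟨t, ht⟩ : ∃ t, 5 ^ i = t + 1 := ⟨5 ^ i - 1, by omega⟩
        rw [ht]
        have : (t + 1) ^ 2 = t * (t + 1 + 1) + 1 := by ring
        rw [this]
        simp
      rw [h1] at h
      have h2 := five_pow_mod_four i
      obtain ⟨t, ht⟩ : ∃ t, 5 ^ i + 1 = 2 * (2 * t + 1) := ⟨5 ^ i / 4, by omega⟩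
      rw [ht, ← mul_assoc, show j + 1 + 2 = (j + 2) + 1 by ring, pow_succ] at h
      have h3 : Nat.Coprime (2 ^ (j + 2) * 2) (2 * t + 1) := by
        rw [← pow_succ]
        apply Nat.Coprime.pow_left
        simp
      have h4 := h3.dvd_of_dvd_mul_right h
      have h5 : 2 ^ (j + 2) ∣ 5 ^ i - 1 := Nat.dvd_of_mul_dvd_mul_right (by norm_num) h4
      rw [pow_succ, mul_comm]
      exact Nat.mul_dvd_mul_left 2 (ih h5)
    · exfalso
      have h1 := five_pow_odd_mod i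
      have h2 : 8 ∣ 2 ^ (j + 1 + 2) := by
        have := pow_dvd_pow 2 (show 3 ≤ j + 1 + 2 by omega)
        norm_num at this
        exact this
      have h3 := h2.trans h
      generalize 5 ^ (2 * i + 1) = z at h1 h3
      omega

theorem suz_aux {m k : ℕ} (hm : 3 ≤ m) (hk : 1 ≤ k) (h : 2 ^ (m + 1) ∣ 5 ^ k - 1) :
    2 ^ (2 * m + 1) + 2 ^ (m + 1) + 1 < 5 ^ k := by
  obtain ⟨j, rfl⟩ : ∃ j, m = j + 1 := ⟨m - 1, by omega⟩
  have h1 : 2 ^ j ∣ k := two_pow_dvd h
  have h2 : 2 ^ j ≤ k := Nat.le_of_dvd hk h1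
  have h3 : j + 2 ≤ 2 ^ j := by
    obtain ⟨i, rfl⟩ : ∃ i, j = i + 2 := ⟨j - 2, by omega⟩
    clear h h1 h2 hm
    induction i with
    | zero => norm_num
    | succ i ih =>
      rw [show i + 1 + 2 = (i + 2) + 1 by ring, pow_succ]
      omega
  have h4 : 5 ^ (j + 2) ≤ 5 ^ k := Nat.pow_le_pow_right (by norm_num) (h3.trans h2)
  have h5 : 4 ^ (j + 2) < 5 ^ (j + 2) := Nat.pow_lt_pow_left (by norm_num) (by omega)
  have h6 : (4 : ℕ) ^ (j + 2) = 2 ^ (2 * (j + 1) + 1) + 2 ^ (2 * (j + 1) + 1) := by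
    rw [show (4 : ℕ) = 2 ^ 2 by norm_num, ← pow_mul]
    ring
  have h7 : 2 ^ (2 * (j + 1) + 1) = 2 ^ (j + 1 + 1) * 2 ^ (j + 1) := by rw [← pow_add]; congr 1; omega
  have h8 : 2 ≤ 2 ^ (j + 1) := by
    rw [pow_succ]
    have := Nat.one_le_two_pow (n := j)
    omega
  have h9 : 1 ≤ 2 ^ (j + 1 + 1) := Nat.one_le_two_pow
  nlinarith

theorem suz_sub {m k : ℕ} (hm : 1 ≤ m) (h : 2 ^ (2 * m + 1) + 1 = 5 ^ k + 2 ^ (m + 1)) : m = 1 ∨ m = 2 := by
  by_contra hne
  have hm3 : 3 ≤ m := by omega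
  have h1 : 2 ^ (2 * m + 1) = 2 ^ (m + 1) * 2 ^ m := by rw [← pow_add]; congr 1; omega
  have h2 : 2 ≤ 2 ^ m := by
    have := Nat.pow_le_pow_right (show 0 < 2 by norm_num) hm
    simpa using this
  have h0 : 1 ≤ 2 ^ (m + 1) := Nat.one_le_two_pow
  have hk : 1 ≤ k := by
    rcases Nat.eq_zero_or_pos k with hk | hk
    · subst hk
      rw [pow_zero] at h
      nlinarith
    · exact hk
  have h3 : 2 ^ (m + 1) ∣ 5 ^ k - 1 := by
    refine ⟨2 ^ m - 1, ?_⟩
    rw [Nat.mul_sub, ← h1, mul_one]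
    omega
  have := suz_aux hm3 hk h3
  omega

theorem suz_add {m k : ℕ} (hm : 1 ≤ m) (h : 2 ^ (2 * m + 1) + 2 ^ (m + 1) + 1 = 5 ^ k) : False := by
  rcases Nat.lt_or_ge m 3 with hm3 | hm3
  · interval_cases m
    · norm_num at h
      rcases Nat.lt_or_ge k 2 with hk | hk
      · interval_cases k <;> omega
      · have := Nat.pow_le_pow_right (show 0 < 5 by norm_num) hk
        omega
    · norm_num at h
      rcases Nat.lt_or_ge k 3 with hk | hk
      · interval_cases k <;> omega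
      · have := Nat.pow_le_pow_right (show 0 < 5 by norm_num) hk
        omega
  · have h1 : 2 ^ (2 * m + 1) = 2 ^ (m + 1) * 2 ^ m := by rw [← pow_add]; congr 1; omega
    have hk : 1 ≤ k := by
      rcases Nat.eq_zero_or_pos k with hk | hk
      · subst hk
        have : 1 ≤ 2 ^ (m + 1) := Nat.one_le_two_pow
        omega
      · exact hk
    have h3 : 2 ^ (m + 1) ∣ 5 ^ k - 1 := by
      refine ⟨2 ^ m + 1, ?_⟩
      rw [Nat.mul_add, ← h1, mul_one, ← h, Nat.add_sub_cancel]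
    have h4 := suz_aux hm3 hk h3
    rw [h] at h4
    exact lt_irrefl _ h4

/-! ### odd prime powers -/

theorem bernoulli {p f : ℕ} (hp : 2 ≤ p) (hf : 2 ≤ f) : (p - 1) * f < p ^ f - 1 := by
  obtain ⟨r, rfl⟩ : ∃ r, p = r + 2 := ⟨p - 2, by omega⟩
  have h : ∀ g, (r + 1) * (g + 2) + 1 < (r + 2) ^ (g + 2) := by
    intro g
    induction g with
    | zero => ring_nf; nlinarith
    | succ g ih =>
      rw [show g + 1 + 2 = (g + 2) + 1 by ring, pow_succ]
      have h1 : ((r + 1) * (g + 2) + 1) * (r + 2) ≤ (r + 2) ^ (g + 2) * (r + 2) := Nat.mul_le_mul_right _ ih.le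
      have h2 : (r + 1) * (g + 1 + 2) + 1 < ((r + 1) * (g + 2) + 1) * (r + 2) := by
        ring_nf
        nlinarith [Nat.zero_le (r * g), Nat.zero_le (r * r * g)]
      exact lt_of_lt_of_le h2 h1
  obtain ⟨g, rfl⟩ : ∃ g, f = g + 2 := ⟨f - 2, by omega⟩
  have h1 := h g
  have h2 : r + 2 - 1 = r + 1 := by omega
  rw [h2]
  omega

theorem eq_of_dvd_two_mul {n k : ℕ} (hn : n ∣ 2 * 5 ^ k) (h2 : 2 ∣ n) : ∃ t, t ≤ k ∧ n = 2 * 5 ^ t := by
  obtain ⟨m, rfl⟩ := h2
  have h1 : m ∣ 5 ^ k := Nat.dvd_of_mul_dvd_mul_left (by norm_num) hn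
  obtain ⟨t, ht, rfl⟩ := (Nat.dvd_prime_pow Nat.prime_five).1 h1
  exact ⟨t, ht, rfl⟩

theorem val_two_mul (k : ℕ) : padicValNat 5 (2 * 5 ^ k) = k := by
  have : Fact (Nat.Prime 5) := ⟨Nat.prime_five⟩
  rw [padicValNat.mul (by norm_num) (by positivity), padicValNat.prime_pow,
    padicValNat.eq_zero_of_not_dvd (by norm_num), zero_add]

/-- prime powers `2·5ᵏ + 1` are primes -/
theorem prime_pow_sub {p f k : ℕ} (hp : p.Prime) (hf : 1 ≤ f) (hk : 1 ≤ k) (h : p ^ f = 2 * 5 ^ k + 1) : f = 1 := by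
  have : Fact (Nat.Prime 5) := ⟨Nat.prime_five⟩
  by_contra hne
  have hf2 : 2 ≤ f := by omega
  have hpf : Odd (p ^ f) := ⟨5 ^ k, h⟩
  have hodd : Odd p := (Nat.odd_pow_iff (by omega)).1 hpf
  have h4 := five_pow_mod_four k
  rcases Nat.even_or_odd' f with ⟨j, rfl | rfl⟩
  · have h1 : (p ^ j) ^ 2 = 2 * 5 ^ k + 1 := by rw [← pow_mul, mul_comm j 2]; exact h
    obtain ⟨i, hi⟩ := hodd.pow (n := j)
    rw [hi] at h1
    have h2 : (2 * i + 1) ^ 2 = 4 * (i ^ 2 + i) + 1 := by ring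
    omega
  · have hp5 : ¬ 5 ∣ p := by
      intro h5
      have h6 : 5 ∣ p ^ (2 * j + 1) := dvd_pow h5 (by omega)
      rw [h] at h6
      have h7 : 5 ∣ 2 * 5 ^ k := Dvd.dvd.mul_left (dvd_pow_self 5 (by omega)) 2
      omega
    have h1 : p - 1 ∣ 2 * 5 ^ k := by
      have := Nat.sub_one_dvd_pow_sub_one p (2 * j + 1)
      rw [h] at this
      simpa using this
    have hp3 : 3 ≤ p := by
      obtain ⟨i, hi⟩ := hodd
      have := hp.two_le
      omega
    obtain ⟨t, ht, hpt⟩ := eq_of_dvd_two_mul h1 (by obtain ⟨i, hi⟩ := hodd; omega)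
    rcases Nat.eq_zero_or_pos t with h0 | h0
    · subst h0
      have hp' : p = 3 := by omega
      subst hp'
      have h5 : ∀ i, 3 ^ (2 * i + 1) % 5 = 3 ∨ 3 ^ (2 * i + 1) % 5 = 2 := by
        intro i
        induction i with
        | zero => left; rfl
        | succ i ih =>
          rw [show 2 * (i + 1) + 1 = (2 * i + 1) + 2 by ring, pow_add, Nat.mul_mod]
          rcases ih with ih | ih <;> rw [ih] <;> norm_num
      have h6 := h5 j
      have h7 : 5 ∣ 2 * 5 ^ k := Dvd.dvd.mul_left (dvd_pow_self 5 (by omega)) 2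
      omega
    · have h5 : 5 ∣ p - 1 := by rw [hpt]; exact Dvd.dvd.mul_left (dvd_pow_self 5 (by omega)) 2
      have h6 := padicValNat.pow_sub_pow (p := 5) (x := p) (y := 1) (by decide) (by omega) h5 hp5
        (n := 2 * j + 1) (by omega)
      rw [one_pow, h, Nat.add_sub_cancel, val_two_mul, hpt, val_two_mul] at h6
      have h7 : 5 ^ padicValNat 5 (2 * j + 1) ≤ 2 * j + 1 :=
        Nat.le_of_dvd (by omega) pow_padicValNat_dvd
      have h8 := bernoulli hp.two_le hf2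
      rw [hpt, h, h6, pow_add] at h8
      have h9 : 2 * 5 ^ t * 5 ^ padicValNat 5 (2 * j + 1) ≤ 2 * 5 ^ t * (2 * j + 1) := Nat.mul_le_mul_left _ h7
      have h10 : 2 * (5 ^ t * 5 ^ padicValNat 5 (2 * j + 1)) = 2 * 5 ^ t * 5 ^ padicValNat 5 (2 * j + 1) := by ring
      omega

/-- prime powers `2·5ᵏ - 1` are primes, `9` or `49` -/
theorem prime_pow_add {p f k : ℕ} (hp : p.Prime) (hf : 1 ≤ f) (hk : 1 ≤ k) (h : p ^ f + 1 = 2 * 5 ^ k) :
    f = 1 ∨ p ^ f = 9 ∨ p ^ f = 49 := by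
  have : Fact (Nat.Prime 5) := ⟨Nat.prime_five⟩
  have h50 : 5 ≤ 5 ^ k := by
    have := Nat.pow_le_pow_right (show 0 < 5 by norm_num) hk
    simpa using this
  have hpf : Odd (p ^ f) := ⟨5 ^ k - 1, by omega⟩
  have hodd : Odd p := (Nat.odd_pow_iff (by omega)).1 hpf
  rcases Nat.even_or_odd' f with ⟨j, rfl | rfl⟩
  · right
    have h1 : (p ^ j) ^ 2 + 1 = 2 * 5 ^ k := by rw [← pow_mul, mul_comm j 2]; exact h
    rw [mul_comm 2 j, pow_mul]
    rcases stoermer h1 with h2 | h2 | h2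
    · rw [h2] at h1
      omega
    · rw [h2]; left; norm_num
    · rw [h2]; right; norm_num
  · left
    by_contra hne
    have hj : 1 ≤ j := by omega
    have hp5 : ¬ 5 ∣ p := by
      intro h5
      have h6 : 5 ∣ p ^ (2 * j + 1) := dvd_pow h5 (by omega)
      have h7 : 5 ∣ 2 * 5 ^ k := Dvd.dvd.mul_left (dvd_pow_self 5 (by omega)) 2
      rw [← h] at h7
      omega
    have h1 : p + 1 ∣ 2 * 5 ^ k := by
      rw [← h]
      have := Odd.nat_add_dvd_pow_add_pow p 1 (n := 2 * j + 1) ⟨j, rfl⟩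
      simpa using this
    have hp3 : 3 ≤ p := by
      obtain ⟨i, hi⟩ := hodd
      have := hp.two_le
      omega
    obtain ⟨t, ht, hpt⟩ := eq_of_dvd_two_mul h1 (by obtain ⟨i, hi⟩ := hodd; omega)
    have h0 : 1 ≤ t := by
      rcases Nat.eq_zero_or_pos t with h0 | h0
      · subst h0; omega
      · exact h0
    have h5 : 5 ∣ p + 1 := by rw [hpt]; exact Dvd.dvd.mul_left (dvd_pow_self 5 (by omega)) 2
    have hp9 : 9 ≤ p := by
      have : 5 ≤ 5 ^ t := by
        have := Nat.pow_le_pow_right (show 0 < 5 by norm_num) h0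
        simpa using this
      omega
    have h6 := padicValNat.pow_add_pow (p := 5) (x := p) (y := 1) (by decide) h5 hp5
      (n := 2 * j + 1) ⟨j, rfl⟩
    rw [one_pow, h, val_two_mul, hpt, val_two_mul] at h6
    have h7 : 5 ^ padicValNat 5 (2 * j + 1) ≤ 2 * j + 1 :=
      Nat.le_of_dvd (by omega) pow_padicValNat_dvd
    have h9 : 2 * 5 ^ t * 5 ^ padicValNat 5 (2 * j + 1) ≤ 2 * 5 ^ t * (2 * j + 1) := Nat.mul_le_mul_left _ h7
    have h10 : p ^ (2 * j + 1) + 1 ≤ (p + 1) * (2 * j + 1) := by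
      rw [h, h6, pow_add, hpt]
      calc 2 * (5 ^ t * 5 ^ padicValNat 5 (2 * j + 1)) = 2 * 5 ^ t * 5 ^ padicValNat 5 (2 * j + 1) := by ring
        _ ≤ _ := h9
    have h11 : p * (2 * j + 1) * 8 ≤ p ^ (2 * j + 1) * 8 := by
      apply Nat.mul_le_mul_right
      have h12 := bernoulli hp.two_le (show 2 ≤ 2 * j + 1 by omega)
      have h13 : 1 ≤ p ^ (2 * j) := Nat.one_le_pow _ _ (by omega)
      rw [pow_succ, mul_comm (p ^ (2 * j)) p]
      apply Nat.mul_le_mul_left
      have h14 : 2 * j < 2 ^ (2 * j) := Nat.lt_two_pow_self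
      have h15 : 2 ^ (2 * j) ≤ p ^ (2 * j) := Nat.pow_le_pow_left (by omega) _
      omega
    have h12 := bernoulli hp.two_le (show 2 ≤ 2 * j by omega)
    have h13 : p ^ (2 * j + 1) = p * p ^ (2 * j) := by rw [pow_succ, mul_comm]
    have h16 : (p - 1) * (2 * j) + 1 ≤ p ^ (2 * j) := by omega
    have h17 : p * ((p - 1) * (2 * j) + 1) ≤ p * p ^ (2 * j) := Nat.mul_le_mul_left _ h16
    obtain ⟨r, rfl⟩ : ∃ r, p = r + 9 := ⟨p - 9, by omega⟩
    have h18 : r + 9 - 1 = r + 8 := by omega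
    rw [h18] at h17
    rw [h13] at h10
    nlinarith [Nat.zero_le (r * j), Nat.zero_le (r * r * j)]

theorem ne_even_card {q k : ℕ} (hq : Even q) (h : q ^ 2 + 1 = 2 * 5 ^ k) : False := by
  obtain ⟨r, rfl⟩ := hq
  have : (r + r) ^ 2 = 2 * (2 * r ^ 2) := by ring
  omega

/-- all primes dividing `q² + 1` are 2 or 5 -/
theorem sq_add_one {q : ℕ} (hq : 2 ≤ q) (hpp : IsPrimePow q) (h : ∀ v, v.Prime → v ∣ q ^ 2 + 1 → v = 2 ∨ v = 5) :
    q = 2 ∨ q = 3 ∨ q = 7 := by
  rcases Nat.even_or_odd q with he | ho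
  · left
    have h1 : ∃ k, q ^ 2 + 1 = 5 ^ k := by
      refine ⟨_, Nat.eq_prime_pow_of_unique_prime_dvd (by positivity) fun {v} hv hd => ?_⟩
      rcases h v hv hd with h2 | h2
      · subst h2
        obtain ⟨r, rfl⟩ := he
        have : (r + r) ^ 2 = 2 * (2 * r ^ 2) := by ring
        omega
      · exact h2
    obtain ⟨k, hk⟩ := h1
    obtain ⟨p, n, hp, hn, rfl⟩ := hpp
    have hp := hp.nat_prime
    have h2 : p = 2 :=
      ((Nat.prime_dvd_prime_iff_eq Nat.prime_two hp).1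
        (Nat.prime_two.dvd_of_dvd_pow (even_iff_two_dvd.1 he))).symm
    subst h2
    rw [← pow_mul] at hk
    have h3 := pow_two_add (by omega) hk
    have h4 : n = 1 := by omega
    rw [h4, pow_one]
  · right
    obtain ⟨r, hr⟩ := ho
    have h0 : q ^ 2 + 1 = 2 * (2 * (r ^ 2 + r) + 1) := by rw [hr]; ring
    have h1 : ∃ k, 2 * (r ^ 2 + r) + 1 = 5 ^ k := by
      refine ⟨_, Nat.eq_prime_pow_of_unique_prime_dvd (by positivity) fun {v} hv hd => ?_⟩
      rcases h v hv (by rw [h0]; exact hd.mul_left 2) with h2 | h2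
      · subst h2
        omega
      · exact h2
    obtain ⟨k, hk⟩ := h1
    rw [hk] at h0
    rcases stoermer h0 with h2 | h2 | h2
    · omega
    · exact Or.inl h2
    · exact Or.inr h2

end Cfsg.Agent.H534.Five
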