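import Cfsg.Agent.H534.FiveRows
import Cfsg.Agent.H378.ExcAdj
import Cfsg.Agent.H493.PGE6T
import Cfsg.Agent.H493.PGD4T
import Cfsg.Agent.H493.PGF4T
import Cfsg.Agent.H493.PGSzRee
import Cfsg.Agent.H94.Sp.AC
import Cfsg.Agent.S1069
import Cfsg.Agent.S1163
import Cfsg.Agent.S2466
import Cfsg.Agent.S0252
import Cfsg.Agent.S0253
import Cfsg.Agent.S0254
import Cfsg.Agent.S0822

/-!
# Simple groups in which 5 is an isolated vertex of the prime graph: the other families (helper534, for S4368)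
-/

set_option autoImplicit false

namespace Cfsg.Agent.H534.Five

open Subgroup Cfsg Cfsg.Agent.H94.PG

universe u

theorem Iso5.not_conn {G : Type*} [Group G] [Finite G] (h : Iso5 G) {s : ℕ} (hs : s ≠ 5) : ¬ H493.PG.Conn G 5 s :=
  fun hc => hs (h.eq_of_conn (fun _ _ h => ⟨h.2.1, h.2.2.1, h.2.2.2⟩) hc)

/-! ### exceptional Chevalley groups -/

open H378.ExcAdj in
theorem od_cases {q : ℕ} (hq : 1 ≤ q) : od q 5 ∣ 4 ∨ od q 5 = 0 := by
  by_cases h5 : 5 ∣ q
  · right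
    have h1 : ((q : ℕ) : ZMod 5) = 0 := (ZMod.natCast_eq_zero_iff q 5).2 h5
    rw [od, h1]
    have : Fact (Nat.Prime 5) := ⟨Nat.prime_five⟩
    exact orderOf_zero _
  · left
    exact od_dvd hq (dvd_four h5)

open H378.ExcAdj in
theorem od_ne {q n : ℕ} (hq : 1 ≤ q) (hn : ¬ n ∣ 4) (hn0 : n ≠ 0) : od q 5 ≠ n := by
  intro h
  rcases od_cases hq with h1 | h1
  · rw [h] at h1; exact hn h1
  · exact hn0 (h ▸ h1)

theorem exc_untw {G : Type u} [Group G] (h5 : 5 ∣ Nat.card G) (h : Iso5 G)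
    (hG : Lie.IsoChevG2 G ∨ Lie.IsoF4 G ∨ Lie.IsoChevE6 G ∨ Lie.IsoE7 G ∨ Lie.IsoE8 G) : False := by
  rcases hG with ⟨F, _, _, -, ⟨e⟩⟩ | ⟨F, _, _, ⟨e⟩⟩ | ⟨F, _, _, ⟨e⟩⟩ | ⟨F, _, _, ⟨e⟩⟩ | ⟨F, _, _, ⟨e⟩⟩
  · have hq : 1 ≤ Nat.card F := Nat.card_pos
    rw [Nat.card_congr e.toEquiv] at h5
    rcases H378.ExcAdj.adj_G2 F Nat.prime_five h5 with h1 | h1 | h1 | h1
    · omega
    · exact (h.congr e).not_adj 2 h1
    · exact od_ne hq (by norm_num) (by norm_num) h1
    · exact od_ne hq (by norm_num) (by norm_num) h1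
  · have hq : 1 ≤ Nat.card F := Nat.card_pos
    rw [Nat.card_congr e.toEquiv] at h5
    rcases H378.ExcAdj.adj_F4 F Nat.prime_five h5 with h1 | h1 | h1 | h1
    · omega
    · exact (h.congr e).not_adj 2 h1
    · exact od_ne hq (by norm_num) (by norm_num) h1
    · exact od_ne hq (by norm_num) (by norm_num) h1
  · have hq : 1 ≤ Nat.card F := Nat.card_pos
    rw [Nat.card_congr e.toEquiv] at h5
    rcases H378.ExcAdj.adj_E6 F Nat.prime_five h5 with h1 | h1 | h1 | h1 | h1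
    · omega
    · exact (h.congr e).not_adj 2 h1
    all_goals exact od_ne hq (by norm_num) (by norm_num) h1
  · have hq : 1 ≤ Nat.card F := Nat.card_pos
    rw [Nat.card_congr e.toEquiv] at h5
    rcases H378.ExcAdj.adj_E7 F Nat.prime_five h5 with h1 | h1 | h1 | h1 | h1 | h1 | h1
    · omega
    · exact (h.congr e).not_adj 2 h1
    all_goals exact od_ne hq (by norm_num) (by norm_num) h1
  · have hq : 1 ≤ Nat.card F := Nat.card_pos
    rw [Nat.card_congr e.toEquiv] at h5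
    rcases H378.ExcAdj.adj_E8 F Nat.prime_five h5 with h1 | h1 | h1 | h1 | h1 | h1
    · omega
    · exact (h.congr e).not_adj 2 h1
    all_goals exact od_ne hq (by norm_num) (by norm_num) h1

/-! ### twisted groups -/

open H493.PGTorus H493.PGCyc in
theorem int_cases {q : ℕ} (h5 : ¬ 5 ∣ q) :
    ((5 : ℕ) : ℤ) ∣ pv c1 q ∨ ((5 : ℕ) : ℤ) ∣ pv c2 q ∨ ((5 : ℕ) : ℤ) ∣ pv c4 q := by
  rw [pv_c1, pv_c2, pv_c4]
  have h1 : (q : ℤ) % 5 = 1 ∨ (q : ℤ) % 5 = 4 ∨ (q : ℤ) % 5 = 2 ∨ (q : ℤ) % 5 = 3 := by omega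
  push_cast
  rcases h1 with h1 | h1 | h1 | h1
  · left; omega
  · right; left; omega
  · right; right
    apply Int.dvd_of_emod_eq_zero
    rw [Int.add_emod, pow_two, Int.mul_emod, h1]; rfl
  · right; right
    apply Int.dvd_of_emod_eq_zero
    rw [Int.add_emod, pow_two, Int.mul_emod, h1]; rfl

open H493.PGTorus H493.PGCyc in
theorem two_dvd {q : ℕ} (hq : IsPrimePow q) (h5 : 5 ∣ q) : ((2 : ℕ) : ℤ) ∣ pv c1 q := by
  obtain ⟨p, n, hp, hn, hpn⟩ := id hq
  have hp := hp.nat_prime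
  have h1 : 5 = p := by
    rw [← hpn] at h5
    exact (Nat.prime_dvd_prime_iff_eq Nat.prime_five hp).1 (Nat.prime_five.dvd_of_dvd_pow h5)
  have h2 : Odd q := by rw [← hpn, ← h1]; exact Odd.pow (by decide)
  obtain ⟨r, hr⟩ := h2
  rw [pv_c1, hr]
  exact ⟨r, by push_cast; ring⟩

theorem twE6 {G : Type*} [Group G] (h : Iso5 G) (hG : Lie.Iso2E6 G) : False := by
  obtain ⟨K, _, _, q, hq, hK, ⟨e⟩⟩ := hG
  have h' := h.congr e
  obtain ⟨p, n, hp, hn, hpn⟩ := id hq
  have hp := hp.nat_prime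
  have hpq : p ∣ q := hpn ▸ dvd_pow_self p hn.ne'
  by_cases h5 : 5 ∣ q
  · have h1 := H493.PGE6T.conn_main hq hK Nat.prime_two Nat.prime_five h5 (by norm_num)
      (Or.inr (Or.inl (two_dvd hq h5)))
    exact h'.not_conn (by norm_num) h1.symm
  · have hp5 : p ≠ 5 := by rintro rfl; exact h5 hpq
    refine h'.not_conn hp5 (H493.PGE6T.conn_main hq hK Nat.prime_five hp hpq (by norm_num) ?_)
    rcases int_cases h5 with h1 | h1 | h1
    · exact Or.inr (Or.inl h1)
    · exact Or.inr (Or.inr (Or.inl h1))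
    · exact Or.inr (Or.inr (Or.inr (Or.inr (Or.inl h1))))

open H493.PGTorus H493.PGCyc H493.PGD4T in
theorem twD4 {G : Type*} [Group G] (h5' : 5 ∣ Nat.card G) (h : Iso5 G) (hG : Lie.Iso3D4 G) : False := by
  obtain ⟨K, _, _, q, hq, hK, ⟨e⟩⟩ := hG
  have h' := h.congr e
  rw [Nat.card_congr e.toEquiv, Cfsg.Agent.S1067.result hq hK] at h5'
  obtain ⟨p, n, hp, hn, hpn⟩ := id hq
  have hp := hp.nat_prime
  have hpq : p ∣ q := hpn ▸ dvd_pow_self p hn.ne'
  by_cases h5 : 5 ∣ q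
  · exact h'.not_conn (by norm_num) (conn_p_gen hq hK chainA_ok hThA eigA_1 (by decide) (by decide) fixA vanA_1
      Nat.prime_two Nat.prime_five (two_dvd hq h5) h5).symm
  · have hp5 : p ≠ 5 := by rintro rfl; exact h5 hpq
    have h1 : ((5 : ℕ) : ℤ) ∣ pv c1 q ∨ ((5 : ℕ) : ℤ) ∣ pv c2 q := by
      rw [pv_c1, pv_c2]
      have hq1 : 1 ≤ q := hq.one_lt.le
      rcases dvd_cases h5 with h1 | h1 | h1
      · left; push_cast; omega
      · right; push_cast; omega
      · exfalso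
        have h2 : q ^ 2 % 5 = 4 := by rcases h1 with h1 | h1 <;> rw [Nat.pow_mod, h1]
        have h4 : q ^ 4 % 5 = 1 := by rcases h1 with h1 | h1 <;> rw [Nat.pow_mod, h1]
        have h6 : q ^ 6 % 5 = 4 := by rcases h1 with h1 | h1 <;> rw [Nat.pow_mod, h1]
        have h8 : q ^ 8 % 5 = 1 := by rcases h1 with h1 | h1 <;> rw [Nat.pow_mod, h1]
        rcases (Nat.Prime.dvd_mul Nat.prime_five).1 h5' with h9 | h9
        · rcases (Nat.Prime.dvd_mul Nat.prime_five).1 h9 with h9 | h9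
          · rcases (Nat.Prime.dvd_mul Nat.prime_five).1 h9 with h9 | h9
            · exact h5 (Nat.prime_five.dvd_of_dvd_pow h9)
            · omega
          · omega
        · omega
    rcases h1 with h1 | h1
    · exact h'.not_conn hp5 (conn_p_gen hq hK chainA_ok hThA eigA_1 (by decide) (by decide) fixA vanA_1
        Nat.prime_five hp h1 hpq)
    · exact h'.not_conn hp5 (conn_p_gen hq hK chainB_ok hThB eigB_2 (by decide) (by decide) fixB vanB_2
        Nat.prime_five hp h1 hpq)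

theorem two_pow_mod (m : ℕ) : 2 ^ (2 * m + 1) % 5 = 2 ∨ 2 ^ (2 * m + 1) % 5 = 3 := by
  induction m with
  | zero => left; rfl
  | succ m ih =>
    rw [show 2 * (m + 1) + 1 = (2 * m + 1) + 2 by ring, pow_add, Nat.mul_mod]
    rcases ih with h | h <;> rw [h] <;> norm_num

theorem twF4 {G : Type*} [Group G] (h : Iso5 G) (hG : Lie.Iso2F4 G) : False := by
  obtain ⟨K, _, _, m, hm, hK, ⟨e⟩⟩ := hG
  have h' := h.congr e
  refine h'.not_conn (s := 2) (by norm_num) (H493.PGF4T.conn_main hm hK Nat.prime_five ?_)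
  have hq := two_pow_mod m
  have h1 : (2 : ℤ) ^ (2 * m + 1) = 2 * (2 ^ m) ^ 2 := by rw [← pow_mul, pow_succ, mul_comm m 2]; ring
  have h2 : H493.PGF4T.fp (2 ^ m) * H493.PGF4T.fm (2 ^ m) = ((2 : ℤ) ^ (2 * m + 1)) ^ 2 + 1 := by
    rw [h1, H493.PGF4T.fp, H493.PGF4T.fm]; ring
  have h3 : ((5 : ℕ) : ℤ) ∣ H493.PGF4T.fp (2 ^ m) * H493.PGF4T.fm (2 ^ m) := by
    rw [h2]
    have h4 : 5 ∣ (2 ^ (2 * m + 1)) ^ 2 + 1 := by
      have h5 : (2 ^ (2 * m + 1)) ^ 2 % 5 = 4 := by rcases hq with h | h <;> rw [Nat.pow_mod, h]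
      omega
    exact_mod_cast h4
  rcases (Nat.prime_iff_prime_int.1 Nat.prime_five).dvd_or_dvd h3 with h4 | h4
  · exact Or.inr (Or.inr (Or.inr (Or.inl h4)))
  · exact Or.inr (Or.inr (Or.inr (Or.inr (Or.inl h4))))

theorem three_pow_mod (m : ℕ) : 3 ^ (2 * m + 1) % 5 = 3 ∨ 3 ^ (2 * m + 1) % 5 = 2 := by
  induction m with
  | zero => left; rfl
  | succ m ih =>
    rw [show 2 * (m + 1) + 1 = (2 * m + 1) + 2 by ring, pow_add, Nat.mul_mod]
    rcases ih with h | h <;> rw [h] <;> norm_num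

theorem ree {G : Type*} [Group G] (h5 : 5 ∣ Nat.card G) (hG : Lie.IsoRee G) : False := by
  obtain ⟨K, _, _, m, hm, hK, ⟨e⟩⟩ := hG
  rw [Nat.card_congr e.toEquiv, Cfsg.Agent.S1069.result hK] at h5
  have hq := three_pow_mod m
  generalize 3 ^ (2 * m + 1) = q at hq h5
  have h3 : q ^ 3 % 5 = 2 ∨ q ^ 3 % 5 = 3 := by
    rcases hq with h | h
    · left; rw [Nat.pow_mod, h]
    · right; rw [Nat.pow_mod, h]
  rcases (Nat.Prime.dvd_mul Nat.prime_five).1 h5 with h9 | h9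
  · rcases (Nat.Prime.dvd_mul Nat.prime_five).1 h9 with h9 | h9
    · have := Nat.prime_five.dvd_of_dvd_pow h9
      omega
    · omega
  · omega

/-! ### Suzuki groups -/

theorem suz {G : Type*} [Group G] (h : Iso5 G) (hG : Lie.IsoSuzuki G) :
    Nat.card G = 29120 ∨ Nat.card G = 32537600 := by
  obtain ⟨F, _, _, m, hm, hF, ⟨e⟩⟩ := hG
  have hc := (Cfsg.Agent.S1163.result hm hF).1
  have hcG : Nat.card G = (2 ^ (2 * m + 1)) ^ 2 * (2 ^ (2 * m + 1) - 1) * ((2 ^ (2 * m + 1)) ^ 2 + 1) := by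
    rw [Nat.card_congr e.toEquiv, hc]
  suffices h1 : m = 1 ∨ m = 2 by
    rcases h1 with rfl | rfl
    · left; rw [hcG]; norm_num
    · right; rw [hcG]; norm_num
  obtain ⟨e'⟩ := Cfsg.Agent.OddCyclic.ClaimC.SzIso.iso hm hF
  have h' : Iso5 ↥(Cfsg.Sz F m) := h.congr (e.trans e'.symm)
  have hfin : Finite ↥(Cfsg.Sz F m) := inferInstance
  have hcard : Nat.card ↥(Cfsg.Sz F m) = (2 ^ (2 * m + 1)) ^ 2 * (2 ^ (2 * m + 1) - 1) * ((2 ^ (2 * m + 1)) ^ 2 + 1) := by
    rw [Nat.card_congr e'.toEquiv, hc]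
  have hq := two_pow_mod m
  have h5 : 5 ∣ Nat.card ↥(Cfsg.Sz F m) := by
    rw [hcard]
    apply Dvd.dvd.mul_left
    have h5 : (2 ^ (2 * m + 1)) ^ 2 % 5 = 4 := by rcases hq with h | h <;> rw [Nat.pow_mod, h]
    omega
  have := Fact.mk Nat.prime_five
  obtain ⟨x, hx⟩ := exists_prime_orderOf_dvd_card' 5 h5
  have hx1 : x ≠ 1 := by
    rintro rfl
    rw [orderOf_one] at hx
    omega
  obtain ⟨U, ⟨hU, hxU⟩, -⟩ := Cfsg.Agent.S2238.result hm hF x hx1
  rcases hU with ⟨P, rfl⟩ | ⟨hcy, hN⟩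
  · exfalso
    obtain ⟨k, hk⟩ := P.isPGroup' ⟨x, hxU⟩
    have h3 : x ^ 2 ^ k = 1 := congrArg Subtype.val hk
    have h4 : 5 ∣ 2 ^ k := hx ▸ orderOf_dvd_of_pow_eq_one h3
    have := Nat.prime_five.dvd_of_dvd_pow h4
    omega
  · have h5U : 5 ∣ Nat.card U := by
      rw [← hx, ← Subgroup.orderOf_mk x hxU]
      exact orderOf_dvd_natCard _
    obtain ⟨g, hg⟩ := hcy.exists_generator
    have hgo : orderOf (g : ↥(Cfsg.Sz F m)) = Nat.card U := by
      rw [Subgroup.orderOf_coe, ← Nat.card_zpowers, (Subgroup.eq_top_iff' _).2 hg, Subgroup.card_top]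
    obtain ⟨k, hk1, hk⟩ := h'.orderOf_eq (g := (g : ↥(Cfsg.Sz F m))) (by rw [hgo]; exact h5U)
    rw [hgo] at hk
    rw [hk] at hN
    simp only [Set.mem_insert_iff, Set.mem_singleton_iff] at hN
    have h5k : 5 ∣ 5 ^ k := dvd_pow_self 5 (by omega)
    rcases hN with hN | hN | hN
    · exfalso
      rw [hN] at h5k
      omega
    · exact (suz_add hm hN.symm).elim
    · refine suz_sub hm (k := k) ?_
      have h6 : 2 ^ (m + 1) ≤ 2 ^ (2 * m + 1) := Nat.pow_le_pow_right (by norm_num) (by omega)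
      omega

/-! ### sporadic groups and the Tits group -/

theorem not_nr {G : Type*} [Group G] (h : Iso5 G) (hn : H94.PG.Sp.Nr G 5) : False := by
  rcases hn with h1 | h1
  · omega
  · exact h.not_adj 2 h1

theorem tits {G : Type*} [Group G] [Finite G] (h : Iso5 G) (hG : Lie.IsoTits G) : False :=
  not_nr h (H94.PG.Sp.nr_tits hG Nat.prime_five (by norm_num) (by decide))

theorem spor {G : Type*} [Group G] [Finite G] (h : Iso5 G) (hG : IsSporadicGroup G) :
    Spor.IsoM11 G ∨ Spor.IsoM22 G := by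
  rcases hG with h1 | h1 | h1 | h1 | h1 | h1 | h1 | h1 | h1 | h1 | h1 | h1 | h1 | h1 | h1 | h1 | h1 | h1 | h1 | h1 | h1 |
    h1 | h1 | h1 | h1 | h1
  · exact Or.inl h1
  · exact (not_nr h (H94.PG.Sp.nr_m12' h1 Nat.prime_five (by norm_num) (by decide))).elim
  · exact Or.inr h1
  · obtain ⟨e⟩ := h1
    exact ((h.congr e).not_adj 3 H94.PG.Sp.adj_m23).elim
  · exact (not_nr h (H94.PG.Sp.nr_m24' h1 Nat.prime_five (by norm_num) (by decide))).elim
  · exact (not_nr h (H94.PG.Sp.nr_j1 h1 Nat.prime_five (by norm_num) (by decide))).elim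
  · exact (not_nr h (H94.PG.Sp.nr_j2 h1 Nat.prime_five (by norm_num) (by decide))).elim
  · exact (not_nr h (H94.PG.Sp.nr_j3 h1 Nat.prime_five (by norm_num) (by decide))).elim
  · exact (not_nr h (H94.PG.Sp.nr_j4 h1 Nat.prime_five (by norm_num) (by decide))).elim
  · exact (not_nr h (H94.PG.Sp.nr_co1 h1 Nat.prime_five (by norm_num) (by decide))).elim
  · exact (not_nr h (H94.PG.Sp.nr_co2 h1 Nat.prime_five (by norm_num) (by decide))).elim
  · exact (not_nr h (H94.PG.Sp.nr_co3 h1 Nat.prime_five (by norm_num) (by decide))).elim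
  · exact (not_nr h (H94.PG.Sp.nr_mcl h1 Nat.prime_five (by norm_num) (by decide))).elim
  · exact (not_nr h (H94.PG.Sp.nr_hs h1 Nat.prime_five (by norm_num) (by decide))).elim
  · exact (not_nr h (H94.PG.Sp.nr_suz h1 Nat.prime_five (by norm_num) (by decide))).elim
  · exact (not_nr h (H94.PG.Sp.nr_he h1 Nat.prime_five (by norm_num) (by decide))).elim
  · exact (not_nr h (H94.PG.Sp.nr_ru h1 Nat.prime_five (by norm_num) (by decide))).elim
  · exact (not_nr h (H94.PG.Sp.nr_on h1 Nat.prime_five (by norm_num) (by decide))).elim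
  · exact (not_nr h (H94.PG.Sp.nr_ly h1 Nat.prime_five (by norm_num) (by decide))).elim
  · exact (not_nr h (H94.PG.Sp.nr_fi22 h1 Nat.prime_five (by norm_num) (by decide))).elim
  · exact (not_nr h (H94.PG.Sp.nr_fi23 h1 Nat.prime_five (by norm_num) (by decide))).elim
  · exact (not_nr h (H94.PG.Sp.nr_fi24 h1 Nat.prime_five (by norm_num) (by decide))).elim
  · exact (not_nr h (H94.PG.Sp.nr_hn h1 Nat.prime_five (by norm_num) (by decide))).elim
  · exact (not_nr h (H94.PG.Sp.nr_th h1 Nat.prime_five (by norm_num) (by decide))).elim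
  · exact (not_nr h (H94.PG.Sp.nr_b h1 Nat.prime_five (by norm_num) (by decide))).elim
  · exact (not_nr h (H94.PG.Sp.nr_m h1 Nat.prime_five (by norm_num) (by decide))).elim

/-! ### alternating groups -/

theorem alt {n : ℕ} (hn : 8 ≤ n) (h : Iso5 (alternatingGroup (Fin n))) : False := by
  obtain ⟨g, hg⟩ := (Cfsg.Agent.S2466.result n 5 3 Nat.prime_five Nat.prime_three (by norm_num) (by norm_num)
    (by norm_num) (by omega) (by omega)).2 (by omega)
  exact h.not_orderOf Nat.prime_three (by norm_num) g hg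

/-! ### `PSL₂(q)` -/

theorem psl_two_card (F : Type*) [Field F] [Fintype F] {q : ℕ} (hF : Fintype.card F = q)
    (h5 : 5 ∣ Nat.card (Matrix.ProjectiveSpecialLinearGroup (Fin 2) F)) (h5q : ¬ 5 ∣ q) :
    5 ∣ (q - 1) / Nat.gcd 2 (q - 1) ∨ 5 ∣ (q + 1) / Nat.gcd 2 (q - 1) := by
  have hq1 : 1 ≤ q := by rw [← hF]; exact Fintype.card_pos
  have h1 : 5 ∣ q - 1 ∨ 5 ∣ q ^ 2 - 1 := by
    rcases H371.Psl.dvd_card (F := F) (by norm_num) Nat.prime_five h5 with h | ⟨k, hk1, hk2, hk⟩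
    · rw [Nat.card_eq_fintype_card, hF] at h
      exact absurd h h5q
    · rw [Nat.card_eq_fintype_card, hF] at hk
      interval_cases k
      · left; rwa [pow_one] at hk
      · right; exact hk
  have h2 : 5 ∣ q - 1 ∨ 5 ∣ q + 1 := by
    rcases h1 with h1 | h1
    · exact Or.inl h1
    · have h3 : q ^ 2 - 1 = (q - 1) * (q + 1) := by
        obtain ⟨r, rfl⟩ : ∃ r, q = r + 1 := ⟨q - 1, by omega⟩
        rw [Nat.add_sub_cancel]
        have : (r + 1) ^ 2 = r * (r + 1 + 1) + 1 := by ring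
        omega
      rw [h3] at h1
      exact (Nat.Prime.dvd_mul Nat.prime_five).1 h1
  have hg : Nat.gcd 2 (q - 1) = 1 ∨ Nat.gcd 2 (q - 1) = 2 :=
    (Nat.dvd_prime Nat.prime_two).1 (Nat.gcd_dvd_left _ _)
  have hd : Nat.gcd 2 (q - 1) ∣ q - 1 := Nat.gcd_dvd_right _ _
  rcases hg with hg | hg <;> rw [hg] at hd ⊢
  · simpa using h2
  · rcases h2 with h2 | h2
    · left; omega
    · right; omega

/-- the conclusion for `PSL₂(q)` -/
theorem psl_two (F : Type) [Field F] [Fintype F] {q : ℕ} (hF : Fintype.card F = q) (hq4 : 4 ≤ q)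
    (h5 : 5 ∣ Nat.card (Matrix.ProjectiveSpecialLinearGroup (Fin 2) F))
    (h : Iso5 (Matrix.ProjectiveSpecialLinearGroup (Fin 2) F)) :
    (∃ f : ℕ, 1 ≤ f ∧ q = 5 ^ f) ∨ (∃ f : ℕ, q.Prime ∧ (q = 2 * 5 ^ f + 1 ∨ q + 1 = 2 * 5 ^ f)) ∨ q = 9 ∨ q = 49 ∨
      q = 4 := by
  have hfin : Finite (Matrix.ProjectiveSpecialLinearGroup (Fin 2) F) := inferInstance
  have hpp : IsPrimePow q := by rw [← hF]; exact FiniteField.isPrimePow_card F
  obtain ⟨p, n, hp, hn, hpn⟩ := id hpp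
  have hp := hp.nat_prime
  by_cases h5q : 5 ∣ q
  · left
    have h1 : 5 = p := by
      rw [← hpn] at h5q
      exact (Nat.prime_dvd_prime_iff_eq Nat.prime_five hp).1 (Nat.prime_five.dvd_of_dvd_pow h5q)
    exact ⟨n, hn, by rw [h1, hpn]⟩
  right
  obtain ⟨a, ha⟩ := H363.PSL2Spec.exists_split hF
  obtain ⟨b, hb⟩ := H363.PSL2Spec.exists_nonsplit hF
  have h1 := psl_two_card F hF h5 h5q
  rcases Nat.even_or_odd q with he | ho
  · right; right; right
    have hg : Nat.gcd 2 (q - 1) = 1 := by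
      have h2 : ¬ 2 ∣ q - 1 := by
        obtain ⟨r, hr⟩ := he
        omega
      exact (Nat.coprime_primes Nat.prime_two Nat.prime_two).not.1 (by simp) |> fun _ =>
        (Nat.Prime.coprime_iff_not_dvd Nat.prime_two).2 h2
    rw [hg, Nat.div_one] at ha hb
    rw [hg, Nat.div_one, Nat.div_one] at h1
    have hp2 : p = 2 := by
      have h2 : 2 ∣ p ^ n := by rw [hpn]; exact even_iff_two_dvd.1 he
      exact ((Nat.prime_dvd_prime_iff_eq Nat.prime_two hp).1 (Nat.prime_two.dvd_of_dvd_pow h2)).symm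
    subst hp2
    have hn2 : 2 ≤ n := by
      by_contra hlt
      have : n = 1 := by omega
      subst this
      omega
    rcases h1 with h1 | h1
    · exfalso
      obtain ⟨k, -, hk⟩ := h.orderOf_eq (g := a) (by rw [ha]; exact h1)
      rw [ha] at hk
      exact pow_two_sub hn2 (by rw [hpn, ← hk]; omega)
    · obtain ⟨k, -, hk⟩ := h.orderOf_eq (g := b) (by rw [hb]; exact h1)
      rw [hb] at hk
      have h2 := pow_two_add (a := n) (k := k) hn (by rw [hpn]; exact hk)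
      rw [← hpn, h2]; norm_num
  · have hg : Nat.gcd 2 (q - 1) = 2 := by
      obtain ⟨r, hr⟩ := ho
      exact Nat.gcd_eq_left ⟨r, by omega⟩
    rw [hg] at ha hb h1
    rcases h1 with h1 | h1
    · left
      obtain ⟨k, hk1, hk⟩ := h.orderOf_eq (g := a) (by rw [ha]; exact h1)
      rw [ha] at hk
      have h2 : p ^ n = 2 * 5 ^ k + 1 := by
        obtain ⟨r, hr⟩ := ho
        rw [hpn]
        omega
      have h3 := prime_pow_sub hp hn hk1 h2
      rw [h3, pow_one] at hpn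
      refine ⟨k, by rw [← hpn]; exact hp, Or.inl ?_⟩
      rw [← hpn, ← h2, h3, pow_one]
    · obtain ⟨k, hk1, hk⟩ := h.orderOf_eq (g := b) (by rw [hb]; exact h1)
      rw [hb] at hk
      have h2 : p ^ n + 1 = 2 * 5 ^ k := by
        obtain ⟨r, hr⟩ := ho
        rw [hpn]
        omega
      rcases prime_pow_add hp hn hk1 h2 with h3 | h3 | h3
      · left
        rw [h3, pow_one] at hpn
        refine ⟨k, by rw [← hpn]; exact hp, Or.inr ?_⟩
        rw [← hpn, ← h2, h3, pow_one]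
      · right; left; rw [← hpn, h3]
      · right; right; left; rw [← hpn, h3]

end Cfsg.Agent.H534.Five
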